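import Mathlib
import Groth.Prelude.Def_SGA4a
import Groth.Agent.Lib.Helper74.CanonicalTopos

/-!
# Giraud's theorem, part I: constructions internal to a category satisfying Giraud's axioms
-/

set_option autoImplicit false
set_option linter.unusedSectionVars false
universe v u
open CategoryTheory CategoryTheory.Limits Opposite

namespace Groth.Agent.Lib.Helper74.Giraud

variable {E : Type v} [Category.{u} E]

/-- kernel pairs are equivalence relations -/
lemma isEquivRel_of_isPullback {K B Z : E} {p₁ p₂ : K ⟶ B} {b : B ⟶ Z}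
    (h : IsPullback p₁ p₂ b b) : SGA4.IsEquivRel p₁ p₂ := by
  intro T
  have key : ∀ a a' : T ⟶ B, (∃ f : T ⟶ K, f ≫ p₁ = a ∧ f ≫ p₂ = a') ↔ a ≫ b = a' ≫ b := by
    intro a a'
    constructor
    · rintro ⟨f, rfl, rfl⟩
      rw [Category.assoc, Category.assoc, h.w]
    · intro haa'
      exact ⟨h.lift a a' haa', h.lift_fst _ _ _, h.lift_snd _ _ _⟩
  refine ⟨?_, ?_, ?_, ?_⟩
  · intro f f' hff'
    have h1 : f ≫ p₁ = f' ≫ p₁ := congr_arg Prod.fst hff'
    have h2 : f ≫ p₂ = f' ≫ p₂ := congr_arg Prod.snd hff'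
    exact h.hom_ext h1 h2
  · intro a
    rw [key]
  · intro a a' haa'
    rw [key] at haa' ⊢
    exact haa'.symm
  · intro a a' a'' h1 h2
    rw [key] at h1 h2 ⊢
    exact h1.trans h2

variable [HasFiniteLimits E]

/-- a universally effective epimorphism is universally an epimorphism, also for iterated
base changes -/
lemma epi_comp_pullback_snd {B I T T' : E} (e : B ⟶ I)
    (he : ∀ (T : E) (g : T ⟶ I), EffectiveEpi (pullback.snd e g)) (g : T ⟶ I) (g' : T' ⟶ T) :
    Epi (pullback.snd (pullback.snd e g) g') := by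
  have := he _ (g' ≫ g)
  rw [← pullbackLeftPullbackSndIso_hom_snd]
  infer_instance

variable (hc : ∀ (R A : E) (p₁ p₂ : R ⟶ A), SGA4.IsEquivRel p₁ p₂ →
  SGA4.IsEffectiveUniversalEquivRel p₁ p₂)
include hc

/-- image factorisation: every morphism is a universally effective epimorphism followed by a
monomorphism -/
lemma exists_image {B Z : E} (b : B ⟶ Z) :
    ∃ (I : E) (e : B ⟶ I) (m : I ⟶ Z), e ≫ m = b ∧ Mono m ∧
      ∀ (T : E) (g : T ⟶ I), EffectiveEpi (pullback.snd e g) := by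
  have hK := IsPullback.of_hasPullback b b
  obtain ⟨I, e, hpb, hpo, heff⟩ := hc _ _ _ _ (isEquivRel_of_isPullback hK)
  let m : I ⟶ Z := hpo.desc b b pullback.condition
  have hem : e ≫ m = b := hpo.inl_desc _ _ _
  refine ⟨I, e, m, hem, ⟨fun {T} t₁ t₂ ht => ?_⟩, heff⟩
  -- pull back `e` along `t₁` and `t₂`
  let T₁ := pullback e t₁
  let q₁ : T₁ ⟶ T := pullback.snd e t₁
  let T₁₂ := pullback (pullback.snd e t₂) q₁
  let q₂ : T₁₂ ⟶ T₁ := pullback.snd (pullback.snd e t₂) q₁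
  have hq₁ : Epi q₁ := by
    have := heff _ t₁
    infer_instance
  have hq₂ : Epi q₂ := epi_comp_pullback_snd e heff t₂ q₁
  obtain ⟨u₁, hu₁⟩ : ∃ u₁ : T₁₂ ⟶ B, u₁ ≫ e = (q₂ ≫ q₁) ≫ t₁ :=
    ⟨q₂ ≫ pullback.fst e t₁, by simp only [q₁, Category.assoc, pullback.condition]⟩
  obtain ⟨u₂, hu₂⟩ : ∃ u₂ : T₁₂ ⟶ B, u₂ ≫ e = (q₂ ≫ q₁) ≫ t₂ := by
    refine ⟨pullback.fst (pullback.snd e t₂) q₁ ≫ pullback.fst e t₂, ?_⟩
    simp only [q₂, Category.assoc, pullback.condition]
    rw [← Category.assoc, pullback.condition, Category.assoc]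
  have hub : u₁ ≫ b = u₂ ≫ b := by
    calc u₁ ≫ b = (u₁ ≫ e) ≫ m := by rw [Category.assoc, hem]
      _ = (q₂ ≫ q₁) ≫ t₁ ≫ m := by rw [hu₁]; simp only [Category.assoc]
      _ = (q₂ ≫ q₁) ≫ t₂ ≫ m := by rw [ht]
      _ = (u₂ ≫ e) ≫ m := by rw [hu₂]; simp only [Category.assoc]
      _ = u₂ ≫ b := by rw [Category.assoc, hem]
  -- hence `(u₁, u₂)` factors through the kernel pair of `b`, which is the kernel pair of `e`
  have hue : u₁ ≫ e = u₂ ≫ e := by
    have h1 : pullback.lift u₁ u₂ hub ≫ pullback.fst b b = u₁ := pullback.lift_fst _ _ _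
    have h2 : pullback.lift u₁ u₂ hub ≫ pullback.snd b b = u₂ := pullback.lift_snd _ _ _
    calc u₁ ≫ e = (pullback.lift u₁ u₂ hub ≫ pullback.fst b b) ≫ e := by rw [h1]
      _ = (pullback.lift u₁ u₂ hub ≫ pullback.snd b b) ≫ e := by
        rw [Category.assoc, Category.assoc, hpb.w]
      _ = u₂ ≫ e := by rw [h2]
  rw [hu₁, hu₂] at hue
  have : Epi (q₂ ≫ q₁) := epi_comp _ _
  exact (cancel_epi (q₂ ≫ q₁)).mp hue


omit hc in
/-- the initial object of a category with universal small coproducts is strict -/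
lemma exists_strict_initial (hb : SGA4.HasDisjointUniversalCoproducts.{v, u} E) :
    ∃ (O : E) (_ : IsInitial O), ∀ (V : E) (_ : V ⟶ O), Nonempty (IsInitial V) := by
  obtain ⟨c, hcol, -, hu⟩ := hb PEmpty.{u + 1} (fun x => x.elim)
  have hO : IsInitial c.pt :=
    IsInitial.ofUniqueHom (fun W => hcol.desc (Cofan.mk W (fun x => x.elim)))
      (fun W m => hcol.hom_ext (by rintro ⟨⟨⟩⟩))
  refine ⟨c.pt, hO, fun V g => ?_⟩
  let c' : Cofan (fun x : PEmpty.{u + 1} => (x.elim : E)) := Cofan.mk V (fun x => x.elim)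
  obtain ⟨hc'⟩ := hu c' (𝟙 _) g (by ext ⟨⟨⟩⟩) (NatTrans.Equifibered.of_discrete _) (by rintro ⟨⟨⟩⟩)
  exact ⟨IsInitial.ofUniqueHom (fun W => hc'.desc (Cofan.mk W (fun x => x.elim)))
    (fun W m => hc'.hom_ext (by rintro ⟨⟨⟩⟩))⟩

open Groth.Agent.Lib.Helper74.CanonicalTopos in
/-- (cover density) every object is covered, for the canonical topology, by the maps from a small
detecting family of objects -/
lemma coverByImage_mem (hb : SGA4.HasDisjointUniversalCoproducts.{v, u} E)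
    {C : Type u} [SmallCategory C] (i : C ⥤ E)
    (hdet : ∀ ⦃X Y : E⦄ (f : X ⟶ Y),
      (∀ (U : C) (h : i.obj U ⟶ Y), ∃! h' : i.obj U ⟶ X, h' ≫ f = h) → IsIso f) (X : E) :
    Sieve.coverByImage i X ∈ Sheaf.canonicalTopology E X := by
  obtain ⟨c, hcol, -, hu⟩ := hb (Σ U : C, (i.obj U ⟶ X)) (fun p => i.obj p.1)
  let p : c.pt ⟶ X := Cofan.IsColimit.desc hcol (fun q => q.2)
  have hp : ∀ q, c.inj q ≫ p = q.2 := fun q => Cofan.IsColimit.fac hcol _ q
  obtain ⟨I, e, m, hem, hm, heff⟩ := exists_image hc p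
  have hiso : IsIso m := by
    apply hdet
    intro U h
    refine ⟨c.inj ⟨U, h⟩ ≫ e, ?_, fun h' hh' => ?_⟩
    · change (c.inj ⟨U, h⟩ ≫ e) ≫ m = h
      rw [Category.assoc, hem, hp]
    · change h' ≫ m = h at hh'
      rw [← cancel_mono m, hh', Category.assoc, hem, hp]
  have hR : Sieve.generate (Presieve.singleton p) ∈ Sheaf.canonicalTopology E X := by
    have h1 := generate_singleton_mem e heff
    have h2 := GrothendieckTopology.pullback_stable _ (inv m) h1
    refine GrothendieckTopology.superset_covering _ ?_ h2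
    rintro V g ⟨W, h, _, ⟨⟩, hh⟩
    refine ⟨_, h, p, ⟨⟩, ?_⟩
    rw [← hem, ← Category.assoc, hh, Category.assoc, IsIso.inv_hom_id, Category.comp_id]
  have hT : (Sieve.coverByImage i X).pullback p ∈ Sheaf.canonicalTopology E c.pt := by
    refine GrothendieckTopology.superset_covering _ ?_ (ofArrows_inj_mem c hu)
    intro V k hk
    rw [Sieve.mem_ofArrows_iff] at hk
    obtain ⟨q, a, rfl⟩ := hk
    change (Sieve.coverByImage i X) ((a ≫ c.inj q) ≫ p)
    rw [Category.assoc, hp]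
    exact (Sieve.coverByImage i X).downward_closed (Presieve.in_coverByImage i q.2) a
  refine GrothendieckTopology.transitive _ hR _ ?_
  rintro V k ⟨W, h, _, ⟨⟩, rfl⟩
  rw [Sieve.pullback_comp]
  exact GrothendieckTopology.pullback_stable _ h hT

end Groth.Agent.Lib.Helper74.Giraud
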