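import Mathlib
import Groth.Prelude.Def_SGA4a
import Groth.Agent.Lib.Helper74.CanonicalTopos
import Groth.Agent.Lib.Helper74.Giraud.Internal

/-!
# Giraud's theorem, part II: the site of generators and the comparison functor
-/

set_option autoImplicit false
set_option linter.unusedSectionVars false
universe v u
open CategoryTheory CategoryTheory.Limits Opposite

namespace Groth.Agent.Lib.Helper74.Giraud

section site

variable {E : Type v} [Category.{u} E] [HasFiniteLimits E]
  {C : Type u} [SmallCategory C] (i : C ⥤ E) [i.Full] [i.Faithful]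
  [i.IsCoverDense (Sheaf.canonicalTopology E)]

/-- the topology induced on the generators by the canonical topology -/
abbrev Jind : GrothendieckTopology C := i.inducedTopology (Sheaf.canonicalTopology E)

/-- restriction of canonical sheaves to the generators -/
noncomputable abbrev restr : Sheaf (Sheaf.canonicalTopology E) (Type u) ⥤ Sheaf (Jind i) (Type u) :=
  i.sheafPushforwardContinuous (Type u) (Jind i) (Sheaf.canonicalTopology E)

instance : (restr i).IsEquivalence := by
  unfold restr
  infer_instance

/-- the comparison functor `X ↦ Hom(i -, X)` -/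
noncomputable def Φ : E ⥤ Sheaf (Jind i) (Type u) :=
  (Sheaf.canonicalTopology E).yoneda ⋙ restr i

instance : (Φ i).Full := by
  unfold Φ
  infer_instance

instance : (Φ i).Faithful := by
  unfold Φ
  infer_instance

instance : PreservesFiniteLimits (Φ i) := by
  unfold Φ
  infer_instance

lemma Φ_obj_obj (X : E) (U : Cᵒᵖ) : ((Φ i).obj X).obj.obj U = (i.obj U.unop ⟶ X) := rfl

lemma Φ_map_app (X Y : E) (f : X ⟶ Y) (U : Cᵒᵖ) (s : i.obj U.unop ⟶ X) :
    ((Φ i).map f).hom.app U s = s ≫ f := rfl

lemma Φ_obj_map (X : E) {U V : Cᵒᵖ} (k : U ⟶ V) (s : i.obj U.unop ⟶ X) :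
    ((Φ i).obj X).obj.map k s = i.map k.unop ≫ s := rfl

lemma mem_Jind_iff {U : C} (S : Sieve U) :
    S ∈ Jind i U ↔ S.functorPushforward i ∈ Sheaf.canonicalTopology E (i.obj U) :=
  Functor.mem_inducedTopology_iff_of_isCoverDense _ _ S

end site

end Groth.Agent.Lib.Helper74.Giraud
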