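import Mathlib
import Groth.Agent.Lib.Helper74.CanonicalTopos

/-!
# Giraud's theorem: auxiliary lemmas on canonical topologies and coproducts in a topos
-/

set_option autoImplicit false
set_option linter.unusedSectionVars false
universe w v u
open CategoryTheory CategoryTheory.Limits Opposite

namespace Groth.Agent.Lib.Helper74.Giraud

open Groth.Agent.Lib.Helper74.CanonicalTopos

section generic

variable {𝒞 : Type v} [Category.{w} 𝒞]

/-- every sieve on a strict initial object is covering for the canonical topology -/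
lemma mem_canonical_of_strict_initial {V₀ : 𝒞}
    (hV : ∀ (V' : 𝒞) (_ : V' ⟶ V₀), Nonempty (IsInitial V')) (S : Sieve V₀) :
    S ∈ Sheaf.canonicalTopology 𝒞 V₀ := by
  apply Sheaf.mem_finestTopology_of_forall_isSheafFor
  rintro _ ⟨W, rfl⟩ V' g
  obtain ⟨hI⟩ := hV V' g
  intro x _
  refine ⟨hI.to W, ?_, fun t _ => hI.hom_ext _ _⟩
  intro V'' k _
  obtain ⟨hI'⟩ := hV V'' (k ≫ g)
  exact hI'.hom_ext _ _

/-- a sheaf has exactly one section over an object covered by the empty sieve -/
lemma unique_of_bot_mem {C : Type*} [Category C] (J : GrothendieckTopology C)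
    {F : Cᵒᵖ ⥤ Type w} (hF : Presieve.IsSheaf J F) {T : C}
    (hT : (⊥ : Sieve T) ∈ J T) : Nonempty (Unique (F.obj (op T))) := by
  have h := hF _ hT
  let x : Presieve.FamilyOfElements F (⊥ : Sieve T).arrows := fun Y f hf => False.elim hf
  have hx : x.Compatible := by
    intro Y₁ Y₂ W g₁ g₂ f₁ f₂ h₁ h₂ _
    exact False.elim h₁
  obtain ⟨t, _, ht⟩ := h x hx
  refine ⟨⟨⟨t⟩, fun t' => ht t' ?_⟩⟩
  intro Y f hf
  exact False.elim hf

end generic

section topos

variable {C : Type u} [SmallCategory C] (J : GrothendieckTopology C)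

/-- in a topos of sheaves of sets, a jointly epimorphic small family of monomorphisms with
"empty" pairwise intersections is a coproduct -/
noncomputable def isColimit_cofan_of_jointly_epi {ι : Type u} {X : Sheaf J (Type u)}
    (Y : ι → Sheaf J (Type u)) (f : ∀ k, Y k ⟶ X)
    (hepi : ∀ (W : Sheaf J (Type u)) (a b : X ⟶ W), (∀ k, f k ≫ a = f k ≫ b) → a = b)
    (hmono : ∀ k, Mono (f k))
    (hdisj : ∀ k l, k ≠ l → ∀ (T : Sheaf J (Type u)) (g : T ⟶ Y k) (g' : T ⟶ Y l),
      g ≫ f k = g' ≫ f l → ∀ (W : Sheaf J (Type u)) (a b : T ⟶ W), a = b) :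
    IsColimit (Cofan.mk X f) := by
  have hA : Sieve.ofArrows Y f ∈ Sheaf.canonicalTopology (Sheaf J (Type u)) X :=
    mem_canonical_of_jointly_epi J _ Y f (fun k => Sieve.ofArrows_mk _ _ k) hepi
  have key : ∀ (W : Sheaf J (Type u)) (x : ∀ k, Y k ⟶ W), ∃! t : X ⟶ W, ∀ k, f k ≫ t = x k := by
    intro W x
    have hsh := (Sheaf.isSheaf_yoneda_obj W) _ hA
    rw [Sieve.ofArrows, ← Presieve.isSheafFor_iff_generate, Presieve.isSheafFor_arrows_iff] at hsh
    apply hsh x
    intro k l Z gk gl hg
    change gk ≫ x k = gl ≫ x l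
    by_cases hkl : k = l
    · subst hkl
      have := hmono k
      rw [(cancel_mono (f k)).mp hg]
    · exact hdisj k l hkl Z gk gl hg W _ _
  choose t ht htu using key
  exact Cofan.IsColimit.mk _ (fun c => t c.pt c.inj) (fun c k => ht c.pt c.inj k)
    (fun c m hm => htu c.pt c.inj m hm)

end topos

end Groth.Agent.Lib.Helper74.Giraud
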