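import Mathlib
import Groth.Prelude.Def_SGA4a
import Groth.Agent.Lib.Helper74.CanonicalTopos
import Groth.Agent.Lib.Helper74.Giraud.Internal
import Groth.Agent.Lib.Helper74.Giraud.Site
import Groth.Agent.Lib.Helper74.Giraud.ToposLemmas

/-!
# Giraud's theorem, part III: properties of the comparison functor
-/

set_option autoImplicit false
set_option linter.unusedSectionVars false
universe v u
open CategoryTheory CategoryTheory.Limits Opposite

namespace Groth.Agent.Lib.Helper74.Giraud

open Groth.Agent.Lib.Helper74.CanonicalTopos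

variable {E : Type v} [Category.{u} E] [HasFiniteLimits E]
  {C : Type u} [SmallCategory C] (i : C ⥤ E) [i.Full] [i.Faithful]
  [i.IsCoverDense (Sheaf.canonicalTopology E)]

/-- `Φ` sends covering families of the canonical topology to jointly epimorphic families -/
lemma Φ_jointly_epi {ι : Type*} {X : E} (Y : ι → E) (f : ∀ k, Y k ⟶ X)
    (hf : Sieve.ofArrows Y f ∈ Sheaf.canonicalTopology E X) (Z : Sheaf (Jind i) (Type u))
    (a b : (Φ i).obj X ⟶ Z) (hab : ∀ k, (Φ i).map (f k) ≫ a = (Φ i).map (f k) ≫ b) : a = b := by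
  apply Sheaf.hom_ext
  ext ⟨U⟩ s
  change i.obj U ⟶ X at s
  let T : (Sheaf.canonicalTopology E) (i.obj U) :=
    ⟨(Sieve.ofArrows Y f).pullback s, GrothendieckTopology.pullback_stable _ s hf⟩
  have hS : T.val.functorPullback i ∈ Jind i U := by
    rw [mem_Jind_iff]
    exact Functor.IsCoverDense.functorPullback_pushforward_covering T
  have hZ : Presieve.IsSheaf (Jind i) Z.obj := (isSheaf_iff_isSheaf_of_type _ _).mp Z.property
  apply (hZ _ hS).isSeparatedFor.ext
  intro V k hk
  change (Sieve.ofArrows Y f) (i.map k ≫ s) at hk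
  rw [Sieve.mem_ofArrows_iff] at hk
  obtain ⟨j, g, hg⟩ := hk
  have e1 := NatTrans.naturality_apply a.hom k.op s
  have e2 := NatTrans.naturality_apply b.hom k.op s
  refine e1.symm.trans (Eq.trans ?_ e2)
  change a.hom.app (op V) (i.map k ≫ s) = b.hom.app (op V) (i.map k ≫ s)
  rw [hg]
  exact congr_fun (congr_arg (fun φ => (φ.hom.app (op V) : _ → _)) (hab j)) g

/-- `Φ` sends universally effective epimorphisms to epimorphisms -/
lemma Φ_epi {B I : E} (e : B ⟶ I)
    (heff : ∀ (T : E) (g : T ⟶ I), EffectiveEpi (pullback.snd e g)) : Epi ((Φ i).map e) := by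
  constructor
  intro Z a b hab
  apply Φ_jointly_epi i (fun _ : PUnit.{1} => B) (fun _ => e) ?_ Z a b (fun _ => hab)
  rw [Sieve.ofArrows, Presieve.ofArrows_pUnit]
  exact generate_singleton_mem e heff


/-- over a generator which maps to a strict initial object, sheaves have at most one section -/
lemma subsingleton_sections_of_initial (W : Sheaf (Jind i) (Type u)) (U : C)
    (hU : ∀ (V' : E) (_ : V' ⟶ i.obj U), Nonempty (IsInitial V')) :
    Subsingleton (W.obj.obj (op U)) := by
  have hbot : (⊥ : Sieve U) ∈ Jind i U := by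
    rw [mem_Jind_iff]
    exact mem_canonical_of_strict_initial hU _
  have hW : Presieve.IsSheaf (Jind i) W.obj := (isSheaf_iff_isSheaf_of_type _ _).mp W.property
  obtain ⟨hu⟩ := unique_of_bot_mem (Jind i) hW hbot
  exact ⟨fun a b => (hu.uniq a).trans (hu.uniq b).symm⟩

variable (hb : SGA4.HasDisjointUniversalCoproducts.{v, u} E)
include hb

/-- `Φ` preserves disjoint universal coproducts -/
noncomputable def isColimit_Φ_cofan {ι : Type u} (Y : ι → E) (c : Cofan Y) (hcol : IsColimit c)
    (hd : CoproductDisjoint Y) (hu : IsUniversalColimit c) :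
    IsColimit (Cofan.mk ((Φ i).obj c.pt) (fun k => (Φ i).map (c.inj k))) := by
  apply isColimit_cofan_of_jointly_epi
  · intro W a b hab
    exact Φ_jointly_epi i Y c.inj (ofArrows_inj_mem c hu) W a b hab
  · intro k
    have := hd.mono_inj hcol k
    infer_instance
  · intro k l hkl T g g' hgg' W a b
    obtain ⟨hI⟩ := hd.nonempty_isInitial_of_ne hcol hkl (pullback.cone (c.inj k) (c.inj l))
      (pullback.isLimit (c.inj k) (c.inj l))
    obtain ⟨O, hO, hstrict⟩ := exists_strict_initial hb
    apply Sheaf.hom_ext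
    ext ⟨U⟩ t
    have h1 : (g.hom.app (op U) t : i.obj U ⟶ Y k) ≫ c.inj k =
        (g'.hom.app (op U) t : i.obj U ⟶ Y l) ≫ c.inj l :=
      congr_fun (congr_arg (fun φ => (φ.hom.app (op U) : _ → _)) hgg') t
    have hU : ∀ (V' : E) (_ : V' ⟶ i.obj U), Nonempty (IsInitial V') := by
      intro V' m
      exact hstrict V' (m ≫ pullback.lift _ _ h1 ≫ hI.to O)
    have := subsingleton_sections_of_initial i W U hU
    exact Subsingleton.elim _ _

omit hb in
/-- the map from a generator to a sheaf attached to a section -/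
noncomputable def sectionMap (F : Sheaf (Jind i) (Type u)) (U : C) (x : F.obj.obj (op U)) :
    (Φ i).obj (i.obj U) ⟶ F :=
  ObjectProperty.homMk
    { app := fun V => ↾(fun (g : i.obj V.unop ⟶ i.obj U) => F.obj.map (i.preimage g).op x)
      naturality := fun V V' k => by
        apply ConcreteCategory.hom_ext
        intro g
        change i.obj V.unop ⟶ i.obj U at g
        change F.obj.map (i.preimage (i.map k.unop ≫ g)).op x =
          F.obj.map k (F.obj.map (i.preimage g).op x)
        rw [← Functor.map_comp_apply]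
        have hk : (i.preimage (i.map k.unop ≫ g)).op = (i.preimage g).op ≫ k := by
          apply Quiver.Hom.unop_inj
          apply i.map_injective
          simp
        rw [hk] }

/-- every sheaf on the generators is a quotient of (the image under `Φ` of) a coproduct of
generators -/
lemma exists_epi_from_Φ (F : Sheaf (Jind i) (Type u)) :
    ∃ (A : E) (p : (Φ i).obj A ⟶ F), Epi p := by
  obtain ⟨c, hcol, hd, hu⟩ := hb (Σ U : C, F.obj.obj (op U)) (fun q => i.obj q.1)
  have hΦ := isColimit_Φ_cofan i hb _ c hcol hd hu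
  let p : (Φ i).obj c.pt ⟶ F := Cofan.IsColimit.desc hΦ (fun q => sectionMap i F q.1 q.2)
  have hp : ∀ q, (Φ i).map (c.inj q) ≫ p = sectionMap i F q.1 q.2 :=
    fun q => Cofan.IsColimit.fac hΦ _ q
  refine ⟨c.pt, p, ?_⟩
  have hsurj : ∀ V, Function.Surjective (p.hom.app V) := by
    rintro ⟨U⟩ x
    refine ⟨(c.inj ⟨U, x⟩ : i.obj U ⟶ c.pt), ?_⟩
    have h0 := congr_fun (congr_arg (fun φ => (φ.hom.app (op U) : _ → _)) (hp ⟨U, x⟩))
      (𝟙 (i.obj U))
    have h2 : p.hom.app (op U) (𝟙 (i.obj U) ≫ c.inj ⟨U, x⟩) =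
        F.obj.map (i.preimage (𝟙 (i.obj U))).op x := h0
    have h1 : i.preimage (𝟙 (i.obj U)) = 𝟙 U := by
      apply i.map_injective
      simp
    rw [h1] at h2
    have h3 : 𝟙 (i.obj U) ≫ c.inj ⟨U, x⟩ = c.inj ⟨U, x⟩ := Category.id_comp _
    have h4 : p.hom.app (op U) (c.inj ⟨U, x⟩) = F.obj.map (𝟙 U).op x := by
      have h5 := congr_arg (p.hom.app (op U)) h3
      exact h5.symm.trans h2
    rw [h4]
    simp
  have : Sheaf.IsLocallySurjective p :=
    Presheaf.isLocallySurjective_of_surjective _ _ hsurj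
  infer_instance

end Groth.Agent.Lib.Helper74.Giraud
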