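import Mathlib
import Groth.Prelude.Def_SGA4a
import Groth.Agent.Lib.Helper74.CanonicalTopos
import Groth.Agent.Lib.Helper74.Giraud.Internal
import Groth.Agent.Lib.Helper74.Giraud.Site
import Groth.Agent.Lib.Helper74.Giraud.ToposLemmas
import Groth.Agent.Lib.Helper74.Giraud.PhiProps

/-!
# Giraud's theorem, part IV: the comparison functor is essentially surjective
-/

set_option autoImplicit false
set_option linter.unusedSectionVars false
universe v u w' v'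
open CategoryTheory CategoryTheory.Limits Opposite

namespace Groth.Agent.Lib.Helper74.Giraud

open Groth.Agent.Lib.Helper74.CanonicalTopos

/-- fully faithful functors reflect equivalence relations -/
lemma isEquivRel_of_map {E : Type v} [Category.{u} E] {D : Type w'} [Category.{u} D]
    (Ψ : E ⥤ D) [Ψ.Full] [Ψ.Faithful] {R A : E} (p₁ p₂ : R ⟶ A)
    (h : SGA4.IsEquivRel (Ψ.map p₁) (Ψ.map p₂)) : SGA4.IsEquivRel p₁ p₂ := by
  intro T
  obtain ⟨hinj, hrefl, hsymm, htrans⟩ := h (Ψ.obj T)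
  have key : ∀ a b : T ⟶ A, (∃ f : T ⟶ R, f ≫ p₁ = a ∧ f ≫ p₂ = b) ↔
      (∃ g : Ψ.obj T ⟶ Ψ.obj R, g ≫ Ψ.map p₁ = Ψ.map a ∧ g ≫ Ψ.map p₂ = Ψ.map b) := by
    intro a b
    constructor
    · rintro ⟨f, rfl, rfl⟩
      exact ⟨Ψ.map f, (Ψ.map_comp _ _).symm, (Ψ.map_comp _ _).symm⟩
    · rintro ⟨g, h1, h2⟩
      refine ⟨Ψ.preimage g, Ψ.map_injective ?_, Ψ.map_injective ?_⟩
      · rw [Ψ.map_comp, Ψ.map_preimage, h1]
      · rw [Ψ.map_comp, Ψ.map_preimage, h2]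
  refine ⟨?_, ?_, ?_, ?_⟩
  · intro f f' hff'
    have h1 : f ≫ p₁ = f' ≫ p₁ := congr_arg Prod.fst hff'
    have h2 : f ≫ p₂ = f' ≫ p₂ := congr_arg Prod.snd hff'
    apply Ψ.map_injective
    apply hinj
    change (Ψ.map f ≫ Ψ.map p₁, Ψ.map f ≫ Ψ.map p₂) = (Ψ.map f' ≫ Ψ.map p₁, Ψ.map f' ≫ Ψ.map p₂)
    rw [← Ψ.map_comp, ← Ψ.map_comp, ← Ψ.map_comp, ← Ψ.map_comp, h1, h2]
  · intro a
    exact (key a a).mpr (hrefl (Ψ.map a))
  · intro a b hab
    exact (key b a).mpr (hsymm ((key a b).mp hab))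
  · intro a b c hab hbc
    exact (key a c).mpr (htrans ((key a b).mp hab) ((key b c).mp hbc))

variable {E : Type v} [Category.{u} E] [HasFiniteLimits E]
  {C : Type u} [SmallCategory C] (i : C ⥤ E) [i.Full] [i.Faithful]
  [i.IsCoverDense (Sheaf.canonicalTopology E)]

variable (hb : SGA4.HasDisjointUniversalCoproducts.{v, u} E)
  (hc : ∀ (R A : E) (p₁ p₂ : R ⟶ A), SGA4.IsEquivRel p₁ p₂ →
    SGA4.IsEffectiveUniversalEquivRel p₁ p₂)
include hb hc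

lemma exists_iso_Φ (F : Sheaf (Jind i) (Type u)) : ∃ Q : E, Nonempty ((Φ i).obj Q ≅ F) := by
  obtain ⟨A, p, hp⟩ := exists_epi_from_Φ i hb F
  obtain ⟨B, q', hq'⟩ := exists_epi_from_Φ i hb (pullback p p)
  obtain ⟨b₁, hb₁⟩ : ∃ b₁ : B ⟶ A, (Φ i).map b₁ = q' ≫ pullback.fst p p :=
    ⟨(Φ i).preimage _, (Φ i).map_preimage _⟩
  obtain ⟨b₂, hb₂⟩ : ∃ b₂ : B ⟶ A, (Φ i).map b₂ = q' ≫ pullback.snd p p :=
    ⟨(Φ i).preimage _, (Φ i).map_preimage _⟩
  obtain ⟨I, e, m, hem, hm, heff⟩ := exists_image hc (prod.lift b₁ b₂)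
  obtain ⟨m₁, hm₁⟩ : ∃ m₁ : I ⟶ A, m₁ = m ≫ prod.fst := ⟨_, rfl⟩
  obtain ⟨m₂, hm₂⟩ : ∃ m₂ : I ⟶ A, m₂ = m ≫ prod.snd := ⟨_, rfl⟩
  have he₁ : e ≫ m₁ = b₁ := by rw [hm₁, ← Category.assoc, hem, prod.lift_fst]
  have he₂ : e ≫ m₂ = b₂ := by rw [hm₂, ← Category.assoc, hem, prod.lift_snd]
  have hΦe : Epi ((Φ i).map e) := Φ_epi i e heff
  have hcomm : (Φ i).map m₁ ≫ p = (Φ i).map m₂ ≫ p := by
    rw [← cancel_epi ((Φ i).map e), ← Category.assoc, ← Category.assoc, ← (Φ i).map_comp,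
      ← (Φ i).map_comp, he₁, he₂, hb₁, hb₂, Category.assoc, Category.assoc, pullback.condition]
  obtain ⟨α, hα₁, hα₂⟩ : ∃ α : (Φ i).obj I ⟶ pullback p p,
      α ≫ pullback.fst p p = (Φ i).map m₁ ∧ α ≫ pullback.snd p p = (Φ i).map m₂ :=
    ⟨pullback.lift _ _ hcomm, pullback.lift_fst _ _ _, pullback.lift_snd _ _ _⟩
  have hα : (Φ i).map e ≫ α = q' := by
    apply pullback.hom_ext
    · rw [Category.assoc, hα₁, ← (Φ i).map_comp, he₁, hb₁]
    · rw [Category.assoc, hα₂, ← (Φ i).map_comp, he₂, hb₂]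
  have hαepi : Epi α := by
    rw [← hα] at hq'
    exact epi_of_epi ((Φ i).map e) α
  have hmono_pair : ∀ (T : E) (f f' : T ⟶ I), f ≫ m₁ = f' ≫ m₁ → f ≫ m₂ = f' ≫ m₂ → f = f' := by
    intro T f f' h1 h2
    rw [← cancel_mono m]
    apply Limits.prod.hom_ext
    · rw [Category.assoc, Category.assoc, ← hm₁, h1]
    · rw [Category.assoc, Category.assoc, ← hm₂, h2]
  have hαmono : Mono α := by
    constructor
    intro Z g₁ g₂ hg
    have h1 : g₁ ≫ (Φ i).map m₁ = g₂ ≫ (Φ i).map m₁ := by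
      rw [← hα₁, ← Category.assoc, hg, Category.assoc]
    have h2 : g₁ ≫ (Φ i).map m₂ = g₂ ≫ (Φ i).map m₂ := by
      rw [← hα₂, ← Category.assoc, hg, Category.assoc]
    apply Sheaf.hom_ext
    ext U z
    apply hmono_pair
    · exact congr_fun (congr_arg (fun φ => (φ.hom.app U : _ → _)) h1) z
    · exact congr_fun (congr_arg (fun φ => (φ.hom.app U : _ → _)) h2) z
  have hαiso : IsIso α := isIso_of_mono_of_epi α
  have hpbΦ : IsPullback ((Φ i).map m₁) ((Φ i).map m₂) p p :=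
    IsPullback.of_iso_pullback ⟨hcomm⟩ (asIso α) hα₁ hα₂
  have hER : SGA4.IsEquivRel m₁ m₂ :=
    isEquivRel_of_map (Φ i) m₁ m₂ (isEquivRel_of_isPullback hpbΦ)
  obtain ⟨Q, π, hpb, -, heffπ⟩ := hc _ _ m₁ m₂ hER
  have hΦπ : Epi ((Φ i).map π) := Φ_epi i π heffπ
  have hpbΦ' : IsPullback ((Φ i).map m₁) ((Φ i).map m₂) ((Φ i).map π) ((Φ i).map π) :=
    hpb.map (Φ i)
  have heff₁ : EffectiveEpi p :=
    (isRegularEpi_iff_effectiveEpi _).mp (IsRegularEpiCategory.regularEpiOfEpi p)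
  have heff₂ : EffectiveEpi ((Φ i).map π) :=
    (isRegularEpi_iff_effectiveEpi _).mp (IsRegularEpiCategory.regularEpiOfEpi ((Φ i).map π))
  have hc₁ := isColimitCoforkOfEffectiveEpi p _ hpbΦ.isLimit
  have hc₂ := isColimitCoforkOfEffectiveEpi ((Φ i).map π) _ hpbΦ'.isLimit
  exact ⟨Q, ⟨IsColimit.coconePointUniqueUpToIso hc₂ hc₁⟩⟩

/-- the comparison functor is essentially surjective -/
lemma essSurj_Φ : (Φ i).EssSurj :=
  ⟨fun F => exists_iso_Φ i hb hc F⟩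

/-- the comparison functor is an equivalence -/
lemma isEquivalence_Φ : (Φ i).IsEquivalence := by
  have := essSurj_Φ i hb hc
  exact {}

end Groth.Agent.Lib.Helper74.Giraud
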